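import Mathlib
import Cfsg.Agent.Lib.Sporadic.Co2Cent.Roots

/-!
# The `E₈` root system of the octad in the Leech lattice

The vectors of norm `32` of the lattice supported on the octad `octad0` are listed by `rtA`.
-/

set_option autoImplicit false

namespace Cfsg.Agent.Lib.Sporadic.Co1Cent.Roots

open Cfsg Cfsg.Agent.Lib.Sporadic.GolayCore Cfsg.Agent.Lib.Sporadic.LeechBasic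
  Cfsg.Agent.Lib.Sporadic.LeechNorm Cfsg.Agent.Lib.Sporadic.LeechFacts
  Cfsg.Agent.Lib.Sporadic.LeechAut Cfsg.Agent.Lib.Sporadic.LeechMat
  Cfsg.Agent.Lib.Sporadic.LeechKey Cfsg.Agent.Lib.Sporadic.M24Chain
  Cfsg.Agent.Lib.Sporadic.Co2Cent.Roots

/-- Coordinates. -/
def p4 : ℤ := Int.ofNat 4
/-- Coordinates. -/
def n4 : ℤ := Int.negSucc 3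
/-- Coordinates. -/
def p2 : ℤ := Int.ofNat 2
/-- Coordinates. -/
def n2 : ℤ := Int.negSucc 1
/-- Coordinates. -/
def o0 : ℤ := Int.ofNat 0

/-- The `240` roots. -/
def rtA : List (List ℤ) := [
  [p4,p4,o0,o0,o0,o0,o0,o0],
  [p4,o0,p4,o0,o0,o0,o0,o0],
  [o0,o0,p4,o0,p4,o0,o0,o0],
  [o0,o0,p4,o0,o0,p4,o0,o0],
  [o0,p4,o0,p4,o0,o0,o0,o0],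
  [o0,p4,o0,o0,o0,o0,o0,p4],
  [p4,o0,o0,o0,o0,o0,o0,p4],
  [p4,o0,o0,o0,p4,o0,o0,o0],
  [p4,o0,o0,o0,o0,p4,o0,o0],
  [o0,p4,o0,o0,o0,o0,p4,o0],
  [n2,p2,n2,n2,n2,p2,p2,p2],
  [o0,o0,o0,p4,o0,o0,o0,p4],
  [o0,o0,p4,o0,o0,o0,p4,o0],
  [n2,p2,p2,p2,n2,p2,p2,p2],
  [p4,o0,o0,o0,o0,o0,p4,o0],
  [o0,o0,o0,o0,o0,o0,p4,p4],
  [p4,o0,o0,o0,n4,o0,o0,o0],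
  [o0,o0,p4,p4,o0,o0,o0,o0],
  [o0,o0,p4,o0,o0,o0,o0,p4],
  [p4,o0,o0,p4,o0,o0,o0,o0],
  [p2,p2,n2,p2,n2,n2,p2,n2],
  [o0,o0,o0,p4,p4,o0,o0,o0],
  [p2,p2,n2,p2,p2,n2,p2,p2],
  [o0,o0,o0,o0,p4,o0,p4,o0],
  [o0,o0,o0,p4,o0,p4,o0,o0],
  [o0,p4,o0,o0,p4,o0,o0,o0],
  [p2,p2,n2,n2,p2,p2,p2,p2],
  [o0,p4,o0,o0,o0,p4,o0,o0],
  [o0,p4,p4,o0,o0,o0,o0,o0],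
  [p2,p2,p2,p2,p2,p2,p2,p2],
  [o0,o0,o0,o0,p4,p4,o0,o0],
  [o0,o0,o0,o0,o0,p4,p4,o0],
  [p2,p2,n2,p2,n2,p2,n2,n2],
  [o0,o0,o0,p4,o0,o0,o0,n4],
  [n2,p2,p2,n2,p2,n2,p2,n2],
  [n2,n2,p2,n2,n2,p2,p2,p2],
  [n2,n2,p2,p2,p2,n2,p2,n2],
  [n2,n2,n2,p2,p2,p2,n2,p2],
  [p2,n2,n2,p2,n2,n2,p2,p2],
  [o0,o0,o0,p4,o0,o0,p4,o0],
  [n2,p2,n2,p2,n2,p2,n2,p2],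
  [o0,o0,o0,o0,p4,o0,o0,p4],
  [o0,o0,o0,p4,n4,o0,o0,o0],
  [n2,p2,p2,n2,p2,p2,p2,p2],
  [p2,n2,p2,p2,n2,p2,p2,p2],
  [p2,n2,p2,p2,p2,n2,p2,p2],
  [p2,n2,n2,p2,p2,p2,p2,p2],
  [p2,p2,n2,p2,p2,p2,n2,p2],
  [o0,o0,n4,p4,o0,o0,o0,o0],
  [p2,p2,p2,p2,p2,n2,n2,p2],
  [p4,o0,o0,n4,o0,o0,o0,o0],
  [o0,n4,o0,o0,p4,o0,o0,o0],
  [o0,n4,o0,o0,o0,p4,o0,o0],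
  [o0,p4,n4,o0,o0,o0,o0,o0],
  [o0,o0,o0,o0,n4,o0,o0,p4],
  [o0,o0,o0,o0,o0,p4,o0,p4],
  [n2,p2,n2,p2,n2,n2,p2,p2],
  [p4,o0,o0,o0,o0,o0,n4,o0],
  [p2,n2,p2,n2,p2,p2,n2,n2],
  [n2,n2,p2,p2,p2,n2,n2,p2],
  [n2,n2,p2,n2,p2,p2,n2,p2],
  [p2,n2,n2,n2,n2,p2,p2,p2],
  [p4,o0,n4,o0,o0,o0,o0,o0],
  [p2,n2,p2,p2,p2,p2,p2,n2],
  [n2,p2,p2,p2,p2,n2,p2,p2],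
  [n2,p2,p2,p2,p2,p2,n2,p2],
  [p2,p2,p2,p2,p2,p2,n2,n2],
  [o0,o0,n4,o0,o0,p4,o0,o0],
  [p2,p2,n2,n2,n2,p2,p2,n2],
  [p2,p2,n2,p2,p2,p2,p2,n2],
  [p2,p2,p2,p2,p2,n2,p2,n2],
  [n2,p2,p2,p2,p2,p2,p2,n2],
  [p2,p2,p2,p2,n2,p2,p2,n2],
  [o0,p4,o0,o0,n4,o0,o0,o0],
  [p2,p2,n2,p2,n2,p2,p2,p2],
  [p2,p2,p2,n2,n2,p2,n2,n2],
  [n2,n2,p2,p2,p2,p2,n2,n2],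
  [p2,p2,n2,p2,n2,n2,n2,p2],
  [p2,n2,p2,n2,n2,p2,n2,p2],
  [o0,o0,o0,o0,o0,p4,n4,o0],
  [o0,o0,o0,p4,o0,o0,n4,o0],
  [o0,o0,o0,n4,o0,o0,o0,p4],
  [n2,p2,n2,n2,n2,p2,n2,n2],
  [p2,p2,p2,n2,n2,n2,n2,p2],
  [p2,p2,p2,n2,p2,n2,n2,n2],
  [n2,n2,p2,p2,n2,p2,p2,n2],
  [n4,o0,o0,p4,o0,o0,o0,o0],
  [n2,p2,n2,n2,p2,n2,p2,p2],
  [p2,n2,n2,p2,p2,n2,p2,n2],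
  [n2,n2,n2,n2,p2,p2,p2,p2],
  [n2,n2,n2,n2,n2,p2,n2,p2],
  [p2,p2,n2,n2,p2,n2,n2,p2],
  [p2,n2,p2,n2,n2,p2,p2,n2],
  [o0,n4,o0,o0,o0,o0,p4,o0],
  [n2,p2,n2,p2,n2,p2,p2,n2],
  [p2,n2,p2,n2,p2,n2,n2,p2],
  [p2,n2,n2,p2,p2,n2,n2,p2],
  [p2,n2,n2,n2,p2,p2,p2,n2],
  [n2,n2,n2,p2,p2,n2,p2,p2],
  [p2,p2,n2,n2,p2,p2,n2,n2],
  [p2,n2,n2,p2,n2,p2,n2,p2],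
  [p2,n2,p2,p2,n2,n2,p2,n2],
  [n2,p2,p2,n2,n2,p2,p2,n2],
  [n2,n2,p2,p2,n2,n2,p2,p2],
  [o0,o0,n4,o0,o0,o0,p4,o0],
  [p2,n2,p2,p2,n2,n2,n2,p2],
  [o0,o0,o0,n4,o0,p4,o0,o0],
  [o0,n4,o0,p4,o0,o0,o0,o0],
  [o0,n4,o0,o0,o0,o0,o0,p4],
  [p2,p2,p2,n2,n2,p2,p2,p2],
  [n2,n2,p2,p2,p2,p2,p2,p2],
  [o0,o0,n4,o0,o0,o0,o0,p4],
  [p2,p2,p2,n2,p2,p2,p2,n2],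
  [n2,p2,n2,p2,p2,p2,p2,p2],
  [p2,p2,p2,n2,p2,p2,n2,p2],
  [p4,n4,o0,o0,o0,o0,o0,o0],
  [o0,o0,o0,o0,o0,p4,o0,n4],
  [n4,o0,o0,o0,o0,o0,o0,p4],
  [p2,p2,n2,n2,n2,n2,p2,p2],
  [p2,p2,p2,p2,n2,p2,n2,p2],
  [p4,o0,o0,o0,o0,n4,o0,o0],
  [o0,o0,o0,n4,p4,o0,o0,o0],
  [n4,p4,o0,o0,o0,o0,o0,o0],
  [o0,o0,p4,n4,o0,o0,o0,o0],
  [p4,o0,o0,o0,o0,o0,o0,n4],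
  [o0,o0,p4,o0,o0,o0,o0,n4],
  [n4,o0,p4,o0,o0,o0,o0,o0],
  [o0,o0,o0,p4,o0,n4,o0,o0],
  [o0,o0,o0,n4,o0,o0,p4,o0],
  [o0,o0,n4,o0,p4,o0,o0,o0],
  [p2,n2,n2,p2,n2,n2,n2,n2],
  [n2,n2,p2,n2,p2,p2,p2,n2],
  [p2,n2,n2,p2,p2,p2,n2,n2],
  [p2,p2,p2,n2,p2,n2,p2,p2],
  [o0,o0,o0,o0,p4,o0,o0,n4],
  [o0,o0,o0,o0,n4,p4,o0,o0],
  [o0,p4,o0,o0,o0,n4,o0,o0],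
  [n2,p2,p2,n2,n2,n2,p2,p2],
  [n2,n2,n2,n2,n2,n2,p2,p2],
  [n2,n2,n2,p2,n2,p2,p2,p2],
  [p2,n2,p2,n2,p2,n2,p2,n2],
  [n4,o0,o0,o0,o0,o0,p4,o0],
  [n2,n2,p2,n2,p2,n2,p2,p2],
  [p2,p2,n2,n2,p2,n2,p2,n2],
  [n2,n2,n2,p2,p2,p2,p2,n2],
  [n2,p2,n2,n2,p2,p2,n2,p2],
  [n4,o0,o0,o0,p4,o0,o0,o0],
  [n4,o0,o0,o0,o0,p4,o0,o0],
  [o0,p4,o0,o0,o0,o0,n4,o0],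
  [o0,o0,n4,o0,n4,o0,o0,o0],
  [p2,p2,p2,p2,n2,n2,p2,p2],
  [o0,o0,o0,o0,n4,o0,p4,o0],
  [o0,p4,o0,o0,o0,o0,o0,n4],
  [o0,o0,o0,o0,o0,o0,n4,p4],
  [p2,p2,n2,n2,n2,p2,n2,p2],
  [p2,n2,p2,p2,p2,p2,n2,p2],
  [p2,n2,p2,n2,p2,p2,p2,p2],
  [p2,p2,p2,p2,n2,n2,n2,n2],
  [o0,n4,p4,o0,o0,o0,o0,o0],
  [p2,n2,p2,n2,n2,n2,p2,p2],
  [n2,n2,p2,p2,n2,p2,n2,p2],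
  [p2,p2,n2,p2,p2,n2,n2,n2],
  [p2,n2,n2,p2,n2,p2,p2,n2],
  [o0,o0,o0,o0,o0,n4,o0,p4],
  [n2,p2,n2,p2,p2,n2,p2,n2],
  [o0,o0,o0,o0,o0,n4,p4,o0],
  [n2,p2,p2,n2,n2,n2,n2,n2],
  [n2,n2,p2,n2,n2,p2,n2,n2],
  [n2,n2,p2,n2,n2,n2,p2,n2],
  [n2,n2,n2,p2,n2,n2,n2,p2],
  [p2,n2,p2,p2,n2,p2,n2,n2],
  [o0,p4,o0,n4,o0,o0,o0,o0],
  [n2,p2,p2,p2,n2,n2,p2,n2],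
  [p2,n2,n2,n2,p2,n2,p2,p2],
  [o0,n4,o0,o0,n4,o0,o0,o0],
  [o0,o0,n4,o0,o0,o0,o0,n4],
  [n2,p2,p2,p2,p2,n2,n2,n2],
  [p2,n2,n2,n2,p2,p2,n2,p2],
  [n2,p2,n2,p2,p2,n2,n2,p2],
  [n2,p2,n2,n2,n2,n2,p2,n2],
  [n2,n2,n2,n2,n2,p2,p2,n2],
  [n2,n2,n2,p2,n2,n2,p2,n2],
  [n2,n2,n2,n2,p2,n2,n2,p2],
  [n2,p2,p2,p2,n2,p2,n2,n2],
  [n2,p2,p2,n2,p2,p2,n2,n2],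
  [n2,p2,n2,n2,p2,p2,p2,n2],
  [n2,p2,p2,n2,n2,p2,n2,p2],
  [o0,n4,n4,o0,o0,o0,o0,o0],
  [n2,p2,p2,p2,n2,n2,n2,p2],
  [n2,p2,p2,n2,p2,n2,n2,p2],
  [o0,o0,o0,o0,o0,o0,p4,n4],
  [o0,o0,o0,o0,p4,o0,n4,o0],
  [n2,p2,n2,p2,p2,p2,n2,n2],
  [o0,o0,o0,o0,p4,n4,o0,o0],
  [o0,o0,o0,o0,n4,o0,o0,n4],
  [o0,o0,p4,o0,n4,o0,o0,o0],
  [o0,o0,p4,o0,o0,n4,o0,o0],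
  [n4,o0,o0,o0,n4,o0,o0,o0],
  [p2,n2,n2,n2,n2,n2,n2,p2],
  [o0,o0,p4,o0,o0,o0,n4,o0],
  [p2,n2,n2,n2,n2,p2,n2,n2],
  [n2,n2,n2,p2,p2,n2,n2,n2],
  [p2,p2,n2,n2,n2,n2,n2,n2],
  [n2,p2,n2,p2,n2,n2,n2,n2],
  [p2,n2,p2,p2,p2,n2,n2,n2],
  [n2,n2,n2,n2,p2,n2,p2,n2],
  [n2,n2,n2,n2,p2,p2,n2,n2],
  [n2,n2,n2,p2,n2,p2,n2,n2],
  [n4,o0,n4,o0,o0,o0,o0,o0],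
  [p2,p2,p2,n2,n2,n2,p2,n2],
  [o0,o0,o0,n4,o0,o0,o0,n4],
  [n4,n4,o0,o0,o0,o0,o0,o0],
  [o0,o0,n4,o0,o0,o0,n4,o0],
  [o0,o0,n4,o0,o0,n4,o0,o0],
  [n2,n2,p2,n2,n2,n2,n2,p2],
  [p2,n2,p2,n2,n2,n2,n2,n2],
  [n2,p2,n2,n2,n2,n2,n2,p2],
  [p2,n2,n2,n2,n2,n2,p2,n2],
  [n4,o0,o0,o0,o0,o0,n4,o0],
  [p2,n2,n2,n2,p2,n2,n2,n2],
  [o0,n4,o0,o0,o0,n4,o0,o0],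
  [o0,o0,o0,o0,n4,o0,n4,o0],
  [o0,o0,n4,n4,o0,o0,o0,o0],
  [o0,o0,o0,o0,o0,o0,n4,n4],
  [n4,o0,o0,n4,o0,o0,o0,o0],
  [o0,o0,o0,n4,n4,o0,o0,o0],
  [n2,n2,p2,n2,p2,n2,n2,n2],
  [n2,p2,n2,n2,p2,n2,n2,n2],
  [o0,n4,o0,o0,o0,o0,n4,o0],
  [o0,o0,o0,n4,o0,o0,n4,o0],
  [o0,o0,o0,o0,n4,n4,o0,o0],
  [o0,n4,o0,n4,o0,o0,o0,o0],
  [n2,n2,p2,p2,n2,n2,n2,n2],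
  [o0,n4,o0,o0,o0,o0,o0,n4],
  [n4,o0,o0,o0,o0,o0,o0,n4],
  [n4,o0,o0,o0,o0,n4,o0,o0],
  [o0,o0,o0,o0,o0,n4,n4,o0],
  [o0,o0,o0,o0,o0,n4,o0,n4],
  [o0,o0,o0,n4,o0,n4,o0,o0],
  [n2,n2,n2,n2,n2,n2,n2,n2]]

/-- The basis. -/
def bsA : List (List ℤ) := [
  [o0,n4,n4,o0,o0,o0,o0,o0],
  [n4,o0,o0,o0,o0,n4,o0,o0],
  [p2,p2,n2,n2,p2,n2,p2,n2],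
  [o0,o0,o0,o0,n4,o0,p4,o0],
  [n2,p2,p2,p2,p2,p2,p2,n2],
  [o0,o0,o0,n4,o0,p4,o0,o0],
  [o0,n4,p4,o0,o0,o0,o0,o0],
  [o0,o0,o0,o0,p4,o0,o0,p4]]

/-- The basis as a function. -/
def bA (k : ℕ) : List ℤ := bsA.getD k []

end Cfsg.Agent.Lib.Sporadic.Co1Cent.Roots
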