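import Mathlib
import Cfsg.Agent.Lib.Sporadic.Co1Cent.Roots

/-!
# Finite checks on the `E₈` root system
-/

set_option autoImplicit false

namespace Cfsg.Agent.Lib.Sporadic.Co1Cent.Checks

open Cfsg Cfsg.Agent.Lib.Sporadic.GolayCore Cfsg.Agent.Lib.Sporadic.LeechBasic
  Cfsg.Agent.Lib.Sporadic.LeechNorm Cfsg.Agent.Lib.Sporadic.LeechFacts
  Cfsg.Agent.Lib.Sporadic.LeechAut Cfsg.Agent.Lib.Sporadic.LeechMat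
  Cfsg.Agent.Lib.Sporadic.LeechKey Cfsg.Agent.Lib.Sporadic.M24Chain
  Cfsg.Agent.Lib.Sporadic.Co2Cent.Roots Cfsg.Agent.Lib.Sporadic.Co1Cent.Roots

theorem cls_two : ∀ a0 ∈ [(2 : ℤ), -2], ∀ a1 ∈ [(2 : ℤ), -2], ∀ a2 ∈ [(2 : ℤ), -2], ∀ a3 ∈ [(2 : ℤ), -2],
    ∀ a4 ∈ [(2 : ℤ), -2], ∀ a5 ∈ [(2 : ℤ), -2], ∀ a6 ∈ [(2 : ℤ), -2], ∀ a7 ∈ [(2 : ℤ), -2],
    (a0 + a1 + a2 + a3 + a4 + a5 + a6 + a7) % 8 = 0 → [a0, a1, a2, a3, a4, a5, a6, a7] ∈ rtA := by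
  decide +kernel

theorem cls_four : ∀ a0 ∈ [(0 : ℤ), 4, -4], ∀ a1 ∈ [(0 : ℤ), 4, -4], ∀ a2 ∈ [(0 : ℤ), 4, -4],
    ∀ a3 ∈ [(0 : ℤ), 4, -4], ∀ a4 ∈ [(0 : ℤ), 4, -4], ∀ a5 ∈ [(0 : ℤ), 4, -4], ∀ a6 ∈ [(0 : ℤ), 4, -4],
    ∀ a7 ∈ [(0 : ℤ), 4, -4],
    a0 * a0 + a1 * a1 + a2 * a2 + a3 * a3 + a4 * a4 + a5 * a5 + a6 * a6 + a7 * a7 = 32 →
    [a0, a1, a2, a3, a4, a5, a6, a7] ∈ rtA := by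
  decide +kernel

end Cfsg.Agent.Lib.Sporadic.Co1Cent.Checks
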