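import Mathlib
import Cfsg.Agent.Lib.Sporadic.Co1Cent.Roots

/-!
# Vectors of norm `32` on the complement of the octad
-/

set_option autoImplicit false

namespace Cfsg.Agent.Lib.Sporadic.Co1Cent.Checks

open Cfsg Cfsg.Agent.Lib.Sporadic.GolayCore Cfsg.Agent.Lib.Sporadic.LeechBasic
  Cfsg.Agent.Lib.Sporadic.LeechNorm Cfsg.Agent.Lib.Sporadic.LeechFacts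
  Cfsg.Agent.Lib.Sporadic.LeechAut Cfsg.Agent.Lib.Sporadic.LeechMat
  Cfsg.Agent.Lib.Sporadic.LeechKey Cfsg.Agent.Lib.Sporadic.M24Chain
  Cfsg.Agent.Lib.Sporadic.Co2Cent.Roots Cfsg.Agent.Lib.Sporadic.Co1Cent.Roots

/-- The vectors. -/
def cL : List (List ℤ) := [
  [o0,o0,o0,o0,p4,o0,p4,o0,o0,o0,o0,o0,o0,o0,o0,o0,o0,o0,o0,o0,o0,o0,o0,o0],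
  [o0,o0,o0,o0,p4,o0,n4,o0,o0,o0,o0,o0,o0,o0,o0,o0,o0,o0,o0,o0,o0,o0,o0,o0],
  [o0,o0,o0,o0,n4,o0,p4,o0,o0,o0,o0,o0,o0,o0,o0,o0,o0,o0,o0,o0,o0,o0,o0,o0],
  [o0,o0,o0,o0,n4,o0,n4,o0,o0,o0,o0,o0,o0,o0,o0,o0,o0,o0,o0,o0,o0,o0,o0,o0],
  [o0,o0,o0,o0,p4,o0,o0,p4,o0,o0,o0,o0,o0,o0,o0,o0,o0,o0,o0,o0,o0,o0,o0,o0],
  [o0,o0,o0,o0,p4,o0,o0,n4,o0,o0,o0,o0,o0,o0,o0,o0,o0,o0,o0,o0,o0,o0,o0,o0],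
  [o0,o0,o0,o0,n4,o0,o0,p4,o0,o0,o0,o0,o0,o0,o0,o0,o0,o0,o0,o0,o0,o0,o0,o0],
  [o0,o0,o0,o0,n4,o0,o0,n4,o0,o0,o0,o0,o0,o0,o0,o0,o0,o0,o0,o0,o0,o0,o0,o0],
  [o0,o0,o0,o0,p4,o0,o0,o0,p4,o0,o0,o0,o0,o0,o0,o0,o0,o0,o0,o0,o0,o0,o0,o0],
  [o0,o0,o0,o0,p4,o0,o0,o0,n4,o0,o0,o0,o0,o0,o0,o0,o0,o0,o0,o0,o0,o0,o0,o0],
  [o0,o0,o0,o0,n4,o0,o0,o0,p4,o0,o0,o0,o0,o0,o0,o0,o0,o0,o0,o0,o0,o0,o0,o0],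
  [o0,o0,o0,o0,n4,o0,o0,o0,n4,o0,o0,o0,o0,o0,o0,o0,o0,o0,o0,o0,o0,o0,o0,o0],
  [o0,o0,o0,o0,p4,o0,o0,o0,o0,p4,o0,o0,o0,o0,o0,o0,o0,o0,o0,o0,o0,o0,o0,o0],
  [o0,o0,o0,o0,p4,o0,o0,o0,o0,n4,o0,o0,o0,o0,o0,o0,o0,o0,o0,o0,o0,o0,o0,o0],
  [o0,o0,o0,o0,n4,o0,o0,o0,o0,p4,o0,o0,o0,o0,o0,o0,o0,o0,o0,o0,o0,o0,o0,o0],
  [o0,o0,o0,o0,n4,o0,o0,o0,o0,n4,o0,o0,o0,o0,o0,o0,o0,o0,o0,o0,o0,o0,o0,o0],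
  [o0,o0,o0,o0,p4,o0,o0,o0,o0,o0,p4,o0,o0,o0,o0,o0,o0,o0,o0,o0,o0,o0,o0,o0],
  [o0,o0,o0,o0,p4,o0,o0,o0,o0,o0,n4,o0,o0,o0,o0,o0,o0,o0,o0,o0,o0,o0,o0,o0],
  [o0,o0,o0,o0,n4,o0,o0,o0,o0,o0,p4,o0,o0,o0,o0,o0,o0,o0,o0,o0,o0,o0,o0,o0],
  [o0,o0,o0,o0,n4,o0,o0,o0,o0,o0,n4,o0,o0,o0,o0,o0,o0,o0,o0,o0,o0,o0,o0,o0],
  [o0,o0,o0,o0,p4,o0,o0,o0,o0,o0,o0,p4,o0,o0,o0,o0,o0,o0,o0,o0,o0,o0,o0,o0],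
  [o0,o0,o0,o0,p4,o0,o0,o0,o0,o0,o0,n4,o0,o0,o0,o0,o0,o0,o0,o0,o0,o0,o0,o0],
  [o0,o0,o0,o0,n4,o0,o0,o0,o0,o0,o0,p4,o0,o0,o0,o0,o0,o0,o0,o0,o0,o0,o0,o0],
  [o0,o0,o0,o0,n4,o0,o0,o0,o0,o0,o0,n4,o0,o0,o0,o0,o0,o0,o0,o0,o0,o0,o0,o0],
  [o0,o0,o0,o0,p4,o0,o0,o0,o0,o0,o0,o0,p4,o0,o0,o0,o0,o0,o0,o0,o0,o0,o0,o0],
  [o0,o0,o0,o0,p4,o0,o0,o0,o0,o0,o0,o0,n4,o0,o0,o0,o0,o0,o0,o0,o0,o0,o0,o0],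
  [o0,o0,o0,o0,n4,o0,o0,o0,o0,o0,o0,o0,p4,o0,o0,o0,o0,o0,o0,o0,o0,o0,o0,o0],
  [o0,o0,o0,o0,n4,o0,o0,o0,o0,o0,o0,o0,n4,o0,o0,o0,o0,o0,o0,o0,o0,o0,o0,o0],
  [o0,o0,o0,o0,p4,o0,o0,o0,o0,o0,o0,o0,o0,p4,o0,o0,o0,o0,o0,o0,o0,o0,o0,o0],
  [o0,o0,o0,o0,p4,o0,o0,o0,o0,o0,o0,o0,o0,n4,o0,o0,o0,o0,o0,o0,o0,o0,o0,o0],
  [o0,o0,o0,o0,n4,o0,o0,o0,o0,o0,o0,o0,o0,p4,o0,o0,o0,o0,o0,o0,o0,o0,o0,o0],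
  [o0,o0,o0,o0,n4,o0,o0,o0,o0,o0,o0,o0,o0,n4,o0,o0,o0,o0,o0,o0,o0,o0,o0,o0],
  [o0,o0,o0,o0,p4,o0,o0,o0,o0,o0,o0,o0,o0,o0,o0,p4,o0,o0,o0,o0,o0,o0,o0,o0],
  [o0,o0,o0,o0,p4,o0,o0,o0,o0,o0,o0,o0,o0,o0,o0,n4,o0,o0,o0,o0,o0,o0,o0,o0],
  [o0,o0,o0,o0,n4,o0,o0,o0,o0,o0,o0,o0,o0,o0,o0,p4,o0,o0,o0,o0,o0,o0,o0,o0],
  [o0,o0,o0,o0,n4,o0,o0,o0,o0,o0,o0,o0,o0,o0,o0,n4,o0,o0,o0,o0,o0,o0,o0,o0],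
  [o0,o0,o0,o0,p4,o0,o0,o0,o0,o0,o0,o0,o0,o0,o0,o0,p4,o0,o0,o0,o0,o0,o0,o0],
  [o0,o0,o0,o0,p4,o0,o0,o0,o0,o0,o0,o0,o0,o0,o0,o0,n4,o0,o0,o0,o0,o0,o0,o0],
  [o0,o0,o0,o0,n4,o0,o0,o0,o0,o0,o0,o0,o0,o0,o0,o0,p4,o0,o0,o0,o0,o0,o0,o0],
  [o0,o0,o0,o0,n4,o0,o0,o0,o0,o0,o0,o0,o0,o0,o0,o0,n4,o0,o0,o0,o0,o0,o0,o0],
  [o0,o0,o0,o0,p4,o0,o0,o0,o0,o0,o0,o0,o0,o0,o0,o0,o0,o0,p4,o0,o0,o0,o0,o0],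
  [o0,o0,o0,o0,p4,o0,o0,o0,o0,o0,o0,o0,o0,o0,o0,o0,o0,o0,n4,o0,o0,o0,o0,o0],
  [o0,o0,o0,o0,n4,o0,o0,o0,o0,o0,o0,o0,o0,o0,o0,o0,o0,o0,p4,o0,o0,o0,o0,o0],
  [o0,o0,o0,o0,n4,o0,o0,o0,o0,o0,o0,o0,o0,o0,o0,o0,o0,o0,n4,o0,o0,o0,o0,o0],
  [o0,o0,o0,o0,o0,o0,p4,p4,o0,o0,o0,o0,o0,o0,o0,o0,o0,o0,o0,o0,o0,o0,o0,o0],
  [o0,o0,o0,o0,o0,o0,p4,n4,o0,o0,o0,o0,o0,o0,o0,o0,o0,o0,o0,o0,o0,o0,o0,o0],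
  [o0,o0,o0,o0,o0,o0,n4,p4,o0,o0,o0,o0,o0,o0,o0,o0,o0,o0,o0,o0,o0,o0,o0,o0],
  [o0,o0,o0,o0,o0,o0,n4,n4,o0,o0,o0,o0,o0,o0,o0,o0,o0,o0,o0,o0,o0,o0,o0,o0],
  [o0,o0,o0,o0,o0,o0,p4,o0,p4,o0,o0,o0,o0,o0,o0,o0,o0,o0,o0,o0,o0,o0,o0,o0],
  [o0,o0,o0,o0,o0,o0,p4,o0,n4,o0,o0,o0,o0,o0,o0,o0,o0,o0,o0,o0,o0,o0,o0,o0],
  [o0,o0,o0,o0,o0,o0,n4,o0,p4,o0,o0,o0,o0,o0,o0,o0,o0,o0,o0,o0,o0,o0,o0,o0],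
  [o0,o0,o0,o0,o0,o0,n4,o0,n4,o0,o0,o0,o0,o0,o0,o0,o0,o0,o0,o0,o0,o0,o0,o0],
  [o0,o0,o0,o0,o0,o0,p4,o0,o0,p4,o0,o0,o0,o0,o0,o0,o0,o0,o0,o0,o0,o0,o0,o0],
  [o0,o0,o0,o0,o0,o0,p4,o0,o0,n4,o0,o0,o0,o0,o0,o0,o0,o0,o0,o0,o0,o0,o0,o0],
  [o0,o0,o0,o0,o0,o0,n4,o0,o0,p4,o0,o0,o0,o0,o0,o0,o0,o0,o0,o0,o0,o0,o0,o0],
  [o0,o0,o0,o0,o0,o0,n4,o0,o0,n4,o0,o0,o0,o0,o0,o0,o0,o0,o0,o0,o0,o0,o0,o0],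
  [o0,o0,o0,o0,o0,o0,p4,o0,o0,o0,p4,o0,o0,o0,o0,o0,o0,o0,o0,o0,o0,o0,o0,o0],
  [o0,o0,o0,o0,o0,o0,p4,o0,o0,o0,n4,o0,o0,o0,o0,o0,o0,o0,o0,o0,o0,o0,o0,o0],
  [o0,o0,o0,o0,o0,o0,n4,o0,o0,o0,p4,o0,o0,o0,o0,o0,o0,o0,o0,o0,o0,o0,o0,o0],
  [o0,o0,o0,o0,o0,o0,n4,o0,o0,o0,n4,o0,o0,o0,o0,o0,o0,o0,o0,o0,o0,o0,o0,o0],
  [o0,o0,o0,o0,o0,o0,p4,o0,o0,o0,o0,p4,o0,o0,o0,o0,o0,o0,o0,o0,o0,o0,o0,o0],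
  [o0,o0,o0,o0,o0,o0,p4,o0,o0,o0,o0,n4,o0,o0,o0,o0,o0,o0,o0,o0,o0,o0,o0,o0],
  [o0,o0,o0,o0,o0,o0,n4,o0,o0,o0,o0,p4,o0,o0,o0,o0,o0,o0,o0,o0,o0,o0,o0,o0],
  [o0,o0,o0,o0,o0,o0,n4,o0,o0,o0,o0,n4,o0,o0,o0,o0,o0,o0,o0,o0,o0,o0,o0,o0],
  [o0,o0,o0,o0,o0,o0,p4,o0,o0,o0,o0,o0,p4,o0,o0,o0,o0,o0,o0,o0,o0,o0,o0,o0],
  [o0,o0,o0,o0,o0,o0,p4,o0,o0,o0,o0,o0,n4,o0,o0,o0,o0,o0,o0,o0,o0,o0,o0,o0],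
  [o0,o0,o0,o0,o0,o0,n4,o0,o0,o0,o0,o0,p4,o0,o0,o0,o0,o0,o0,o0,o0,o0,o0,o0],
  [o0,o0,o0,o0,o0,o0,n4,o0,o0,o0,o0,o0,n4,o0,o0,o0,o0,o0,o0,o0,o0,o0,o0,o0],
  [o0,o0,o0,o0,o0,o0,p4,o0,o0,o0,o0,o0,o0,p4,o0,o0,o0,o0,o0,o0,o0,o0,o0,o0],
  [o0,o0,o0,o0,o0,o0,p4,o0,o0,o0,o0,o0,o0,n4,o0,o0,o0,o0,o0,o0,o0,o0,o0,o0],
  [o0,o0,o0,o0,o0,o0,n4,o0,o0,o0,o0,o0,o0,p4,o0,o0,o0,o0,o0,o0,o0,o0,o0,o0],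
  [o0,o0,o0,o0,o0,o0,n4,o0,o0,o0,o0,o0,o0,n4,o0,o0,o0,o0,o0,o0,o0,o0,o0,o0],
  [o0,o0,o0,o0,o0,o0,p4,o0,o0,o0,o0,o0,o0,o0,o0,p4,o0,o0,o0,o0,o0,o0,o0,o0],
  [o0,o0,o0,o0,o0,o0,p4,o0,o0,o0,o0,o0,o0,o0,o0,n4,o0,o0,o0,o0,o0,o0,o0,o0],
  [o0,o0,o0,o0,o0,o0,n4,o0,o0,o0,o0,o0,o0,o0,o0,p4,o0,o0,o0,o0,o0,o0,o0,o0],
  [o0,o0,o0,o0,o0,o0,n4,o0,o0,o0,o0,o0,o0,o0,o0,n4,o0,o0,o0,o0,o0,o0,o0,o0],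
  [o0,o0,o0,o0,o0,o0,p4,o0,o0,o0,o0,o0,o0,o0,o0,o0,p4,o0,o0,o0,o0,o0,o0,o0],
  [o0,o0,o0,o0,o0,o0,p4,o0,o0,o0,o0,o0,o0,o0,o0,o0,n4,o0,o0,o0,o0,o0,o0,o0],
  [o0,o0,o0,o0,o0,o0,n4,o0,o0,o0,o0,o0,o0,o0,o0,o0,p4,o0,o0,o0,o0,o0,o0,o0],
  [o0,o0,o0,o0,o0,o0,n4,o0,o0,o0,o0,o0,o0,o0,o0,o0,n4,o0,o0,o0,o0,o0,o0,o0],
  [o0,o0,o0,o0,o0,o0,p4,o0,o0,o0,o0,o0,o0,o0,o0,o0,o0,o0,p4,o0,o0,o0,o0,o0],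
  [o0,o0,o0,o0,o0,o0,p4,o0,o0,o0,o0,o0,o0,o0,o0,o0,o0,o0,n4,o0,o0,o0,o0,o0],
  [o0,o0,o0,o0,o0,o0,n4,o0,o0,o0,o0,o0,o0,o0,o0,o0,o0,o0,p4,o0,o0,o0,o0,o0],
  [o0,o0,o0,o0,o0,o0,n4,o0,o0,o0,o0,o0,o0,o0,o0,o0,o0,o0,n4,o0,o0,o0,o0,o0],
  [o0,o0,o0,o0,o0,o0,o0,p4,p4,o0,o0,o0,o0,o0,o0,o0,o0,o0,o0,o0,o0,o0,o0,o0],
  [o0,o0,o0,o0,o0,o0,o0,p4,n4,o0,o0,o0,o0,o0,o0,o0,o0,o0,o0,o0,o0,o0,o0,o0],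
  [o0,o0,o0,o0,o0,o0,o0,n4,p4,o0,o0,o0,o0,o0,o0,o0,o0,o0,o0,o0,o0,o0,o0,o0],
  [o0,o0,o0,o0,o0,o0,o0,n4,n4,o0,o0,o0,o0,o0,o0,o0,o0,o0,o0,o0,o0,o0,o0,o0],
  [o0,o0,o0,o0,o0,o0,o0,p4,o0,p4,o0,o0,o0,o0,o0,o0,o0,o0,o0,o0,o0,o0,o0,o0],
  [o0,o0,o0,o0,o0,o0,o0,p4,o0,n4,o0,o0,o0,o0,o0,o0,o0,o0,o0,o0,o0,o0,o0,o0],
  [o0,o0,o0,o0,o0,o0,o0,n4,o0,p4,o0,o0,o0,o0,o0,o0,o0,o0,o0,o0,o0,o0,o0,o0],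
  [o0,o0,o0,o0,o0,o0,o0,n4,o0,n4,o0,o0,o0,o0,o0,o0,o0,o0,o0,o0,o0,o0,o0,o0],
  [o0,o0,o0,o0,o0,o0,o0,p4,o0,o0,p4,o0,o0,o0,o0,o0,o0,o0,o0,o0,o0,o0,o0,o0],
  [o0,o0,o0,o0,o0,o0,o0,p4,o0,o0,n4,o0,o0,o0,o0,o0,o0,o0,o0,o0,o0,o0,o0,o0],
  [o0,o0,o0,o0,o0,o0,o0,n4,o0,o0,p4,o0,o0,o0,o0,o0,o0,o0,o0,o0,o0,o0,o0,o0],
  [o0,o0,o0,o0,o0,o0,o0,n4,o0,o0,n4,o0,o0,o0,o0,o0,o0,o0,o0,o0,o0,o0,o0,o0],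
  [o0,o0,o0,o0,o0,o0,o0,p4,o0,o0,o0,p4,o0,o0,o0,o0,o0,o0,o0,o0,o0,o0,o0,o0],
  [o0,o0,o0,o0,o0,o0,o0,p4,o0,o0,o0,n4,o0,o0,o0,o0,o0,o0,o0,o0,o0,o0,o0,o0],
  [o0,o0,o0,o0,o0,o0,o0,n4,o0,o0,o0,p4,o0,o0,o0,o0,o0,o0,o0,o0,o0,o0,o0,o0],
  [o0,o0,o0,o0,o0,o0,o0,n4,o0,o0,o0,n4,o0,o0,o0,o0,o0,o0,o0,o0,o0,o0,o0,o0],
  [o0,o0,o0,o0,o0,o0,o0,p4,o0,o0,o0,o0,p4,o0,o0,o0,o0,o0,o0,o0,o0,o0,o0,o0],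
  [o0,o0,o0,o0,o0,o0,o0,p4,o0,o0,o0,o0,n4,o0,o0,o0,o0,o0,o0,o0,o0,o0,o0,o0],
  [o0,o0,o0,o0,o0,o0,o0,n4,o0,o0,o0,o0,p4,o0,o0,o0,o0,o0,o0,o0,o0,o0,o0,o0],
  [o0,o0,o0,o0,o0,o0,o0,n4,o0,o0,o0,o0,n4,o0,o0,o0,o0,o0,o0,o0,o0,o0,o0,o0],
  [o0,o0,o0,o0,o0,o0,o0,p4,o0,o0,o0,o0,o0,p4,o0,o0,o0,o0,o0,o0,o0,o0,o0,o0],
  [o0,o0,o0,o0,o0,o0,o0,p4,o0,o0,o0,o0,o0,n4,o0,o0,o0,o0,o0,o0,o0,o0,o0,o0],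
  [o0,o0,o0,o0,o0,o0,o0,n4,o0,o0,o0,o0,o0,p4,o0,o0,o0,o0,o0,o0,o0,o0,o0,o0],
  [o0,o0,o0,o0,o0,o0,o0,n4,o0,o0,o0,o0,o0,n4,o0,o0,o0,o0,o0,o0,o0,o0,o0,o0],
  [o0,o0,o0,o0,o0,o0,o0,p4,o0,o0,o0,o0,o0,o0,o0,p4,o0,o0,o0,o0,o0,o0,o0,o0],
  [o0,o0,o0,o0,o0,o0,o0,p4,o0,o0,o0,o0,o0,o0,o0,n4,o0,o0,o0,o0,o0,o0,o0,o0],
  [o0,o0,o0,o0,o0,o0,o0,n4,o0,o0,o0,o0,o0,o0,o0,p4,o0,o0,o0,o0,o0,o0,o0,o0],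
  [o0,o0,o0,o0,o0,o0,o0,n4,o0,o0,o0,o0,o0,o0,o0,n4,o0,o0,o0,o0,o0,o0,o0,o0],
  [o0,o0,o0,o0,o0,o0,o0,p4,o0,o0,o0,o0,o0,o0,o0,o0,p4,o0,o0,o0,o0,o0,o0,o0],
  [o0,o0,o0,o0,o0,o0,o0,p4,o0,o0,o0,o0,o0,o0,o0,o0,n4,o0,o0,o0,o0,o0,o0,o0],
  [o0,o0,o0,o0,o0,o0,o0,n4,o0,o0,o0,o0,o0,o0,o0,o0,p4,o0,o0,o0,o0,o0,o0,o0],
  [o0,o0,o0,o0,o0,o0,o0,n4,o0,o0,o0,o0,o0,o0,o0,o0,n4,o0,o0,o0,o0,o0,o0,o0],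
  [o0,o0,o0,o0,o0,o0,o0,p4,o0,o0,o0,o0,o0,o0,o0,o0,o0,o0,p4,o0,o0,o0,o0,o0],
  [o0,o0,o0,o0,o0,o0,o0,p4,o0,o0,o0,o0,o0,o0,o0,o0,o0,o0,n4,o0,o0,o0,o0,o0],
  [o0,o0,o0,o0,o0,o0,o0,n4,o0,o0,o0,o0,o0,o0,o0,o0,o0,o0,p4,o0,o0,o0,o0,o0],
  [o0,o0,o0,o0,o0,o0,o0,n4,o0,o0,o0,o0,o0,o0,o0,o0,o0,o0,n4,o0,o0,o0,o0,o0],
  [o0,o0,o0,o0,o0,o0,o0,o0,p4,p4,o0,o0,o0,o0,o0,o0,o0,o0,o0,o0,o0,o0,o0,o0],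
  [o0,o0,o0,o0,o0,o0,o0,o0,p4,n4,o0,o0,o0,o0,o0,o0,o0,o0,o0,o0,o0,o0,o0,o0],
  [o0,o0,o0,o0,o0,o0,o0,o0,n4,p4,o0,o0,o0,o0,o0,o0,o0,o0,o0,o0,o0,o0,o0,o0],
  [o0,o0,o0,o0,o0,o0,o0,o0,n4,n4,o0,o0,o0,o0,o0,o0,o0,o0,o0,o0,o0,o0,o0,o0],
  [o0,o0,o0,o0,o0,o0,o0,o0,p4,o0,p4,o0,o0,o0,o0,o0,o0,o0,o0,o0,o0,o0,o0,o0],
  [o0,o0,o0,o0,o0,o0,o0,o0,p4,o0,n4,o0,o0,o0,o0,o0,o0,o0,o0,o0,o0,o0,o0,o0],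
  [o0,o0,o0,o0,o0,o0,o0,o0,n4,o0,p4,o0,o0,o0,o0,o0,o0,o0,o0,o0,o0,o0,o0,o0],
  [o0,o0,o0,o0,o0,o0,o0,o0,n4,o0,n4,o0,o0,o0,o0,o0,o0,o0,o0,o0,o0,o0,o0,o0],
  [o0,o0,o0,o0,o0,o0,o0,o0,p4,o0,o0,p4,o0,o0,o0,o0,o0,o0,o0,o0,o0,o0,o0,o0],
  [o0,o0,o0,o0,o0,o0,o0,o0,p4,o0,o0,n4,o0,o0,o0,o0,o0,o0,o0,o0,o0,o0,o0,o0],
  [o0,o0,o0,o0,o0,o0,o0,o0,n4,o0,o0,p4,o0,o0,o0,o0,o0,o0,o0,o0,o0,o0,o0,o0],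
  [o0,o0,o0,o0,o0,o0,o0,o0,n4,o0,o0,n4,o0,o0,o0,o0,o0,o0,o0,o0,o0,o0,o0,o0],
  [o0,o0,o0,o0,o0,o0,o0,o0,p4,o0,o0,o0,p4,o0,o0,o0,o0,o0,o0,o0,o0,o0,o0,o0],
  [o0,o0,o0,o0,o0,o0,o0,o0,p4,o0,o0,o0,n4,o0,o0,o0,o0,o0,o0,o0,o0,o0,o0,o0],
  [o0,o0,o0,o0,o0,o0,o0,o0,n4,o0,o0,o0,p4,o0,o0,o0,o0,o0,o0,o0,o0,o0,o0,o0],
  [o0,o0,o0,o0,o0,o0,o0,o0,n4,o0,o0,o0,n4,o0,o0,o0,o0,o0,o0,o0,o0,o0,o0,o0],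
  [o0,o0,o0,o0,o0,o0,o0,o0,p4,o0,o0,o0,o0,p4,o0,o0,o0,o0,o0,o0,o0,o0,o0,o0],
  [o0,o0,o0,o0,o0,o0,o0,o0,p4,o0,o0,o0,o0,n4,o0,o0,o0,o0,o0,o0,o0,o0,o0,o0],
  [o0,o0,o0,o0,o0,o0,o0,o0,n4,o0,o0,o0,o0,p4,o0,o0,o0,o0,o0,o0,o0,o0,o0,o0],
  [o0,o0,o0,o0,o0,o0,o0,o0,n4,o0,o0,o0,o0,n4,o0,o0,o0,o0,o0,o0,o0,o0,o0,o0],
  [o0,o0,o0,o0,o0,o0,o0,o0,p4,o0,o0,o0,o0,o0,o0,p4,o0,o0,o0,o0,o0,o0,o0,o0],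
  [o0,o0,o0,o0,o0,o0,o0,o0,p4,o0,o0,o0,o0,o0,o0,n4,o0,o0,o0,o0,o0,o0,o0,o0],
  [o0,o0,o0,o0,o0,o0,o0,o0,n4,o0,o0,o0,o0,o0,o0,p4,o0,o0,o0,o0,o0,o0,o0,o0],
  [o0,o0,o0,o0,o0,o0,o0,o0,n4,o0,o0,o0,o0,o0,o0,n4,o0,o0,o0,o0,o0,o0,o0,o0],
  [o0,o0,o0,o0,o0,o0,o0,o0,p4,o0,o0,o0,o0,o0,o0,o0,p4,o0,o0,o0,o0,o0,o0,o0],
  [o0,o0,o0,o0,o0,o0,o0,o0,p4,o0,o0,o0,o0,o0,o0,o0,n4,o0,o0,o0,o0,o0,o0,o0],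
  [o0,o0,o0,o0,o0,o0,o0,o0,n4,o0,o0,o0,o0,o0,o0,o0,p4,o0,o0,o0,o0,o0,o0,o0],
  [o0,o0,o0,o0,o0,o0,o0,o0,n4,o0,o0,o0,o0,o0,o0,o0,n4,o0,o0,o0,o0,o0,o0,o0],
  [o0,o0,o0,o0,o0,o0,o0,o0,p4,o0,o0,o0,o0,o0,o0,o0,o0,o0,p4,o0,o0,o0,o0,o0],
  [o0,o0,o0,o0,o0,o0,o0,o0,p4,o0,o0,o0,o0,o0,o0,o0,o0,o0,n4,o0,o0,o0,o0,o0],
  [o0,o0,o0,o0,o0,o0,o0,o0,n4,o0,o0,o0,o0,o0,o0,o0,o0,o0,p4,o0,o0,o0,o0,o0],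
  [o0,o0,o0,o0,o0,o0,o0,o0,n4,o0,o0,o0,o0,o0,o0,o0,o0,o0,n4,o0,o0,o0,o0,o0],
  [o0,o0,o0,o0,o0,o0,o0,o0,o0,p4,p4,o0,o0,o0,o0,o0,o0,o0,o0,o0,o0,o0,o0,o0],
  [o0,o0,o0,o0,o0,o0,o0,o0,o0,p4,n4,o0,o0,o0,o0,o0,o0,o0,o0,o0,o0,o0,o0,o0],
  [o0,o0,o0,o0,o0,o0,o0,o0,o0,n4,p4,o0,o0,o0,o0,o0,o0,o0,o0,o0,o0,o0,o0,o0],
  [o0,o0,o0,o0,o0,o0,o0,o0,o0,n4,n4,o0,o0,o0,o0,o0,o0,o0,o0,o0,o0,o0,o0,o0],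
  [o0,o0,o0,o0,o0,o0,o0,o0,o0,p4,o0,p4,o0,o0,o0,o0,o0,o0,o0,o0,o0,o0,o0,o0],
  [o0,o0,o0,o0,o0,o0,o0,o0,o0,p4,o0,n4,o0,o0,o0,o0,o0,o0,o0,o0,o0,o0,o0,o0],
  [o0,o0,o0,o0,o0,o0,o0,o0,o0,n4,o0,p4,o0,o0,o0,o0,o0,o0,o0,o0,o0,o0,o0,o0],
  [o0,o0,o0,o0,o0,o0,o0,o0,o0,n4,o0,n4,o0,o0,o0,o0,o0,o0,o0,o0,o0,o0,o0,o0],
  [o0,o0,o0,o0,o0,o0,o0,o0,o0,p4,o0,o0,p4,o0,o0,o0,o0,o0,o0,o0,o0,o0,o0,o0],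
  [o0,o0,o0,o0,o0,o0,o0,o0,o0,p4,o0,o0,n4,o0,o0,o0,o0,o0,o0,o0,o0,o0,o0,o0],
  [o0,o0,o0,o0,o0,o0,o0,o0,o0,n4,o0,o0,p4,o0,o0,o0,o0,o0,o0,o0,o0,o0,o0,o0],
  [o0,o0,o0,o0,o0,o0,o0,o0,o0,n4,o0,o0,n4,o0,o0,o0,o0,o0,o0,o0,o0,o0,o0,o0],
  [o0,o0,o0,o0,o0,o0,o0,o0,o0,p4,o0,o0,o0,p4,o0,o0,o0,o0,o0,o0,o0,o0,o0,o0],
  [o0,o0,o0,o0,o0,o0,o0,o0,o0,p4,o0,o0,o0,n4,o0,o0,o0,o0,o0,o0,o0,o0,o0,o0],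
  [o0,o0,o0,o0,o0,o0,o0,o0,o0,n4,o0,o0,o0,p4,o0,o0,o0,o0,o0,o0,o0,o0,o0,o0],
  [o0,o0,o0,o0,o0,o0,o0,o0,o0,n4,o0,o0,o0,n4,o0,o0,o0,o0,o0,o0,o0,o0,o0,o0],
  [o0,o0,o0,o0,o0,o0,o0,o0,o0,p4,o0,o0,o0,o0,o0,p4,o0,o0,o0,o0,o0,o0,o0,o0],
  [o0,o0,o0,o0,o0,o0,o0,o0,o0,p4,o0,o0,o0,o0,o0,n4,o0,o0,o0,o0,o0,o0,o0,o0],
  [o0,o0,o0,o0,o0,o0,o0,o0,o0,n4,o0,o0,o0,o0,o0,p4,o0,o0,o0,o0,o0,o0,o0,o0],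
  [o0,o0,o0,o0,o0,o0,o0,o0,o0,n4,o0,o0,o0,o0,o0,n4,o0,o0,o0,o0,o0,o0,o0,o0],
  [o0,o0,o0,o0,o0,o0,o0,o0,o0,p4,o0,o0,o0,o0,o0,o0,p4,o0,o0,o0,o0,o0,o0,o0],
  [o0,o0,o0,o0,o0,o0,o0,o0,o0,p4,o0,o0,o0,o0,o0,o0,n4,o0,o0,o0,o0,o0,o0,o0],
  [o0,o0,o0,o0,o0,o0,o0,o0,o0,n4,o0,o0,o0,o0,o0,o0,p4,o0,o0,o0,o0,o0,o0,o0],
  [o0,o0,o0,o0,o0,o0,o0,o0,o0,n4,o0,o0,o0,o0,o0,o0,n4,o0,o0,o0,o0,o0,o0,o0],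
  [o0,o0,o0,o0,o0,o0,o0,o0,o0,p4,o0,o0,o0,o0,o0,o0,o0,o0,p4,o0,o0,o0,o0,o0],
  [o0,o0,o0,o0,o0,o0,o0,o0,o0,p4,o0,o0,o0,o0,o0,o0,o0,o0,n4,o0,o0,o0,o0,o0],
  [o0,o0,o0,o0,o0,o0,o0,o0,o0,n4,o0,o0,o0,o0,o0,o0,o0,o0,p4,o0,o0,o0,o0,o0],
  [o0,o0,o0,o0,o0,o0,o0,o0,o0,n4,o0,o0,o0,o0,o0,o0,o0,o0,n4,o0,o0,o0,o0,o0],
  [o0,o0,o0,o0,o0,o0,o0,o0,o0,o0,p4,p4,o0,o0,o0,o0,o0,o0,o0,o0,o0,o0,o0,o0],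
  [o0,o0,o0,o0,o0,o0,o0,o0,o0,o0,p4,n4,o0,o0,o0,o0,o0,o0,o0,o0,o0,o0,o0,o0],
  [o0,o0,o0,o0,o0,o0,o0,o0,o0,o0,n4,p4,o0,o0,o0,o0,o0,o0,o0,o0,o0,o0,o0,o0],
  [o0,o0,o0,o0,o0,o0,o0,o0,o0,o0,n4,n4,o0,o0,o0,o0,o0,o0,o0,o0,o0,o0,o0,o0],
  [o0,o0,o0,o0,o0,o0,o0,o0,o0,o0,p4,o0,p4,o0,o0,o0,o0,o0,o0,o0,o0,o0,o0,o0],
  [o0,o0,o0,o0,o0,o0,o0,o0,o0,o0,p4,o0,n4,o0,o0,o0,o0,o0,o0,o0,o0,o0,o0,o0],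
  [o0,o0,o0,o0,o0,o0,o0,o0,o0,o0,n4,o0,p4,o0,o0,o0,o0,o0,o0,o0,o0,o0,o0,o0],
  [o0,o0,o0,o0,o0,o0,o0,o0,o0,o0,n4,o0,n4,o0,o0,o0,o0,o0,o0,o0,o0,o0,o0,o0],
  [o0,o0,o0,o0,o0,o0,o0,o0,o0,o0,p4,o0,o0,p4,o0,o0,o0,o0,o0,o0,o0,o0,o0,o0],
  [o0,o0,o0,o0,o0,o0,o0,o0,o0,o0,p4,o0,o0,n4,o0,o0,o0,o0,o0,o0,o0,o0,o0,o0],
  [o0,o0,o0,o0,o0,o0,o0,o0,o0,o0,n4,o0,o0,p4,o0,o0,o0,o0,o0,o0,o0,o0,o0,o0],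
  [o0,o0,o0,o0,o0,o0,o0,o0,o0,o0,n4,o0,o0,n4,o0,o0,o0,o0,o0,o0,o0,o0,o0,o0],
  [o0,o0,o0,o0,o0,o0,o0,o0,o0,o0,p4,o0,o0,o0,o0,p4,o0,o0,o0,o0,o0,o0,o0,o0],
  [o0,o0,o0,o0,o0,o0,o0,o0,o0,o0,p4,o0,o0,o0,o0,n4,o0,o0,o0,o0,o0,o0,o0,o0],
  [o0,o0,o0,o0,o0,o0,o0,o0,o0,o0,n4,o0,o0,o0,o0,p4,o0,o0,o0,o0,o0,o0,o0,o0],
  [o0,o0,o0,o0,o0,o0,o0,o0,o0,o0,n4,o0,o0,o0,o0,n4,o0,o0,o0,o0,o0,o0,o0,o0],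
  [o0,o0,o0,o0,o0,o0,o0,o0,o0,o0,p4,o0,o0,o0,o0,o0,p4,o0,o0,o0,o0,o0,o0,o0],
  [o0,o0,o0,o0,o0,o0,o0,o0,o0,o0,p4,o0,o0,o0,o0,o0,n4,o0,o0,o0,o0,o0,o0,o0],
  [o0,o0,o0,o0,o0,o0,o0,o0,o0,o0,n4,o0,o0,o0,o0,o0,p4,o0,o0,o0,o0,o0,o0,o0],
  [o0,o0,o0,o0,o0,o0,o0,o0,o0,o0,n4,o0,o0,o0,o0,o0,n4,o0,o0,o0,o0,o0,o0,o0],
  [o0,o0,o0,o0,o0,o0,o0,o0,o0,o0,p4,o0,o0,o0,o0,o0,o0,o0,p4,o0,o0,o0,o0,o0],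
  [o0,o0,o0,o0,o0,o0,o0,o0,o0,o0,p4,o0,o0,o0,o0,o0,o0,o0,n4,o0,o0,o0,o0,o0],
  [o0,o0,o0,o0,o0,o0,o0,o0,o0,o0,n4,o0,o0,o0,o0,o0,o0,o0,p4,o0,o0,o0,o0,o0],
  [o0,o0,o0,o0,o0,o0,o0,o0,o0,o0,n4,o0,o0,o0,o0,o0,o0,o0,n4,o0,o0,o0,o0,o0],
  [o0,o0,o0,o0,o0,o0,o0,o0,o0,o0,o0,p4,p4,o0,o0,o0,o0,o0,o0,o0,o0,o0,o0,o0],
  [o0,o0,o0,o0,o0,o0,o0,o0,o0,o0,o0,p4,n4,o0,o0,o0,o0,o0,o0,o0,o0,o0,o0,o0],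
  [o0,o0,o0,o0,o0,o0,o0,o0,o0,o0,o0,n4,p4,o0,o0,o0,o0,o0,o0,o0,o0,o0,o0,o0],
  [o0,o0,o0,o0,o0,o0,o0,o0,o0,o0,o0,n4,n4,o0,o0,o0,o0,o0,o0,o0,o0,o0,o0,o0],
  [o0,o0,o0,o0,o0,o0,o0,o0,o0,o0,o0,p4,o0,p4,o0,o0,o0,o0,o0,o0,o0,o0,o0,o0],
  [o0,o0,o0,o0,o0,o0,o0,o0,o0,o0,o0,p4,o0,n4,o0,o0,o0,o0,o0,o0,o0,o0,o0,o0],
  [o0,o0,o0,o0,o0,o0,o0,o0,o0,o0,o0,n4,o0,p4,o0,o0,o0,o0,o0,o0,o0,o0,o0,o0],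
  [o0,o0,o0,o0,o0,o0,o0,o0,o0,o0,o0,n4,o0,n4,o0,o0,o0,o0,o0,o0,o0,o0,o0,o0],
  [o0,o0,o0,o0,o0,o0,o0,o0,o0,o0,o0,p4,o0,o0,o0,p4,o0,o0,o0,o0,o0,o0,o0,o0],
  [o0,o0,o0,o0,o0,o0,o0,o0,o0,o0,o0,p4,o0,o0,o0,n4,o0,o0,o0,o0,o0,o0,o0,o0],
  [o0,o0,o0,o0,o0,o0,o0,o0,o0,o0,o0,n4,o0,o0,o0,p4,o0,o0,o0,o0,o0,o0,o0,o0],
  [o0,o0,o0,o0,o0,o0,o0,o0,o0,o0,o0,n4,o0,o0,o0,n4,o0,o0,o0,o0,o0,o0,o0,o0],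
  [o0,o0,o0,o0,o0,o0,o0,o0,o0,o0,o0,p4,o0,o0,o0,o0,p4,o0,o0,o0,o0,o0,o0,o0],
  [o0,o0,o0,o0,o0,o0,o0,o0,o0,o0,o0,p4,o0,o0,o0,o0,n4,o0,o0,o0,o0,o0,o0,o0],
  [o0,o0,o0,o0,o0,o0,o0,o0,o0,o0,o0,n4,o0,o0,o0,o0,p4,o0,o0,o0,o0,o0,o0,o0],
  [o0,o0,o0,o0,o0,o0,o0,o0,o0,o0,o0,n4,o0,o0,o0,o0,n4,o0,o0,o0,o0,o0,o0,o0],
  [o0,o0,o0,o0,o0,o0,o0,o0,o0,o0,o0,p4,o0,o0,o0,o0,o0,o0,p4,o0,o0,o0,o0,o0],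
  [o0,o0,o0,o0,o0,o0,o0,o0,o0,o0,o0,p4,o0,o0,o0,o0,o0,o0,n4,o0,o0,o0,o0,o0],
  [o0,o0,o0,o0,o0,o0,o0,o0,o0,o0,o0,n4,o0,o0,o0,o0,o0,o0,p4,o0,o0,o0,o0,o0],
  [o0,o0,o0,o0,o0,o0,o0,o0,o0,o0,o0,n4,o0,o0,o0,o0,o0,o0,n4,o0,o0,o0,o0,o0],
  [o0,o0,o0,o0,o0,o0,o0,o0,o0,o0,o0,o0,p4,p4,o0,o0,o0,o0,o0,o0,o0,o0,o0,o0],
  [o0,o0,o0,o0,o0,o0,o0,o0,o0,o0,o0,o0,p4,n4,o0,o0,o0,o0,o0,o0,o0,o0,o0,o0],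
  [o0,o0,o0,o0,o0,o0,o0,o0,o0,o0,o0,o0,n4,p4,o0,o0,o0,o0,o0,o0,o0,o0,o0,o0],
  [o0,o0,o0,o0,o0,o0,o0,o0,o0,o0,o0,o0,n4,n4,o0,o0,o0,o0,o0,o0,o0,o0,o0,o0],
  [o0,o0,o0,o0,o0,o0,o0,o0,o0,o0,o0,o0,p4,o0,o0,p4,o0,o0,o0,o0,o0,o0,o0,o0],
  [o0,o0,o0,o0,o0,o0,o0,o0,o0,o0,o0,o0,p4,o0,o0,n4,o0,o0,o0,o0,o0,o0,o0,o0],
  [o0,o0,o0,o0,o0,o0,o0,o0,o0,o0,o0,o0,n4,o0,o0,p4,o0,o0,o0,o0,o0,o0,o0,o0],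
  [o0,o0,o0,o0,o0,o0,o0,o0,o0,o0,o0,o0,n4,o0,o0,n4,o0,o0,o0,o0,o0,o0,o0,o0],
  [o0,o0,o0,o0,o0,o0,o0,o0,o0,o0,o0,o0,p4,o0,o0,o0,p4,o0,o0,o0,o0,o0,o0,o0],
  [o0,o0,o0,o0,o0,o0,o0,o0,o0,o0,o0,o0,p4,o0,o0,o0,n4,o0,o0,o0,o0,o0,o0,o0],
  [o0,o0,o0,o0,o0,o0,o0,o0,o0,o0,o0,o0,n4,o0,o0,o0,p4,o0,o0,o0,o0,o0,o0,o0],
  [o0,o0,o0,o0,o0,o0,o0,o0,o0,o0,o0,o0,n4,o0,o0,o0,n4,o0,o0,o0,o0,o0,o0,o0],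
  [o0,o0,o0,o0,o0,o0,o0,o0,o0,o0,o0,o0,p4,o0,o0,o0,o0,o0,p4,o0,o0,o0,o0,o0],
  [o0,o0,o0,o0,o0,o0,o0,o0,o0,o0,o0,o0,p4,o0,o0,o0,o0,o0,n4,o0,o0,o0,o0,o0],
  [o0,o0,o0,o0,o0,o0,o0,o0,o0,o0,o0,o0,n4,o0,o0,o0,o0,o0,p4,o0,o0,o0,o0,o0],
  [o0,o0,o0,o0,o0,o0,o0,o0,o0,o0,o0,o0,n4,o0,o0,o0,o0,o0,n4,o0,o0,o0,o0,o0],
  [o0,o0,o0,o0,o0,o0,o0,o0,o0,o0,o0,o0,o0,p4,o0,p4,o0,o0,o0,o0,o0,o0,o0,o0],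
  [o0,o0,o0,o0,o0,o0,o0,o0,o0,o0,o0,o0,o0,p4,o0,n4,o0,o0,o0,o0,o0,o0,o0,o0],
  [o0,o0,o0,o0,o0,o0,o0,o0,o0,o0,o0,o0,o0,n4,o0,p4,o0,o0,o0,o0,o0,o0,o0,o0],
  [o0,o0,o0,o0,o0,o0,o0,o0,o0,o0,o0,o0,o0,n4,o0,n4,o0,o0,o0,o0,o0,o0,o0,o0],
  [o0,o0,o0,o0,o0,o0,o0,o0,o0,o0,o0,o0,o0,p4,o0,o0,p4,o0,o0,o0,o0,o0,o0,o0],
  [o0,o0,o0,o0,o0,o0,o0,o0,o0,o0,o0,o0,o0,p4,o0,o0,n4,o0,o0,o0,o0,o0,o0,o0],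
  [o0,o0,o0,o0,o0,o0,o0,o0,o0,o0,o0,o0,o0,n4,o0,o0,p4,o0,o0,o0,o0,o0,o0,o0],
  [o0,o0,o0,o0,o0,o0,o0,o0,o0,o0,o0,o0,o0,n4,o0,o0,n4,o0,o0,o0,o0,o0,o0,o0],
  [o0,o0,o0,o0,o0,o0,o0,o0,o0,o0,o0,o0,o0,p4,o0,o0,o0,o0,p4,o0,o0,o0,o0,o0],
  [o0,o0,o0,o0,o0,o0,o0,o0,o0,o0,o0,o0,o0,p4,o0,o0,o0,o0,n4,o0,o0,o0,o0,o0],
  [o0,o0,o0,o0,o0,o0,o0,o0,o0,o0,o0,o0,o0,n4,o0,o0,o0,o0,p4,o0,o0,o0,o0,o0],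
  [o0,o0,o0,o0,o0,o0,o0,o0,o0,o0,o0,o0,o0,n4,o0,o0,o0,o0,n4,o0,o0,o0,o0,o0],
  [o0,o0,o0,o0,o0,o0,o0,o0,o0,o0,o0,o0,o0,o0,o0,p4,p4,o0,o0,o0,o0,o0,o0,o0],
  [o0,o0,o0,o0,o0,o0,o0,o0,o0,o0,o0,o0,o0,o0,o0,p4,n4,o0,o0,o0,o0,o0,o0,o0],
  [o0,o0,o0,o0,o0,o0,o0,o0,o0,o0,o0,o0,o0,o0,o0,n4,p4,o0,o0,o0,o0,o0,o0,o0],
  [o0,o0,o0,o0,o0,o0,o0,o0,o0,o0,o0,o0,o0,o0,o0,n4,n4,o0,o0,o0,o0,o0,o0,o0],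
  [o0,o0,o0,o0,o0,o0,o0,o0,o0,o0,o0,o0,o0,o0,o0,p4,o0,o0,p4,o0,o0,o0,o0,o0],
  [o0,o0,o0,o0,o0,o0,o0,o0,o0,o0,o0,o0,o0,o0,o0,p4,o0,o0,n4,o0,o0,o0,o0,o0],
  [o0,o0,o0,o0,o0,o0,o0,o0,o0,o0,o0,o0,o0,o0,o0,n4,o0,o0,p4,o0,o0,o0,o0,o0],
  [o0,o0,o0,o0,o0,o0,o0,o0,o0,o0,o0,o0,o0,o0,o0,n4,o0,o0,n4,o0,o0,o0,o0,o0],
  [o0,o0,o0,o0,o0,o0,o0,o0,o0,o0,o0,o0,o0,o0,o0,o0,p4,o0,p4,o0,o0,o0,o0,o0],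
  [o0,o0,o0,o0,o0,o0,o0,o0,o0,o0,o0,o0,o0,o0,o0,o0,p4,o0,n4,o0,o0,o0,o0,o0],
  [o0,o0,o0,o0,o0,o0,o0,o0,o0,o0,o0,o0,o0,o0,o0,o0,n4,o0,p4,o0,o0,o0,o0,o0],
  [o0,o0,o0,o0,o0,o0,o0,o0,o0,o0,o0,o0,o0,o0,o0,o0,n4,o0,n4,o0,o0,o0,o0,o0]]

theorem cL_length : cL.length = 264 := by decide +kernel

theorem cL_lattice : ∀ a ∈ cL, inLattice a = true := by decide +kernel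

theorem cL_zero : ∀ a ∈ cL, ∀ i ∈ [23, 0, 1, 2, 3, 5, 14, 17], a.getD i 0 = 0 := by decide +kernel

theorem cL_norm : ∀ a ∈ cL, ((List.range 24).map fun i => a.getD i 0 * a.getD i 0).sum = 32 := by decide +kernel

/-- The lists are determined by their coordinates. -/
theorem cL_eta : ∀ a ∈ cL, ((List.range 24).map fun i => a.getD i 0) = a := by decide +kernel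

theorem cL_nodup : cL.Nodup := by decide +kernel

end Cfsg.Agent.Lib.Sporadic.Co1Cent.Checks
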