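import Mathlib
import Cfsg.Agent.Lib.Sporadic.Co1Cent.ChecksC1
import Cfsg.Agent.Lib.Sporadic.Co1Cent.ChecksC2
import Cfsg.Agent.Lib.Sporadic.Co1Cent.ChecksC3
import Cfsg.Agent.Lib.Sporadic.Co1Cent.ChecksC4
import Cfsg.Agent.Lib.Sporadic.Co1Cent.ChecksC5
import Cfsg.Agent.Lib.Sporadic.Co1Cent.ChecksC6

/-!
# Finite checks on the `E₈` root system
-/

set_option autoImplicit false

namespace Cfsg.Agent.Lib.Sporadic.Co1Cent.Checks

open Cfsg Cfsg.Agent.Lib.Sporadic.GolayCore Cfsg.Agent.Lib.Sporadic.LeechBasic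
  Cfsg.Agent.Lib.Sporadic.LeechNorm Cfsg.Agent.Lib.Sporadic.LeechFacts
  Cfsg.Agent.Lib.Sporadic.LeechAut Cfsg.Agent.Lib.Sporadic.LeechMat
  Cfsg.Agent.Lib.Sporadic.LeechKey Cfsg.Agent.Lib.Sporadic.M24Chain
  Cfsg.Agent.Lib.Sporadic.Co2Cent.Roots Cfsg.Agent.Lib.Sporadic.Co1Cent.Roots

/-- The classification. -/
theorem cls {x : V} (hL : x ∈ leechLattice) (hO : SupO x) (hn : sqNorm x = 32) : co8 x ∈ rtA := by
  have hx := vec8_co8 hO
  have h0 : x (pt 4) = 0 := hO _ (not_mem_O (by norm_num) (by decide))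
  obtain ⟨m, hm, hp, hs, _⟩ := (mem_leechLattice_iff x).1 hL
  have hm0 : m = 0 := by
    have := hp (pt 4)
    rw [h0] at this
    simpa using this.symm
  subst hm0
  have h2 : ∀ i, x i % 2 = 0 := hp
  have hsum : (x (pt 23) + x (pt 0) + x (pt 1) + x (pt 2) + x (pt 3) + x (pt 5) + x (pt 14) + x (pt 17)) % 8 = 0 := by
    have h3 := sum_vec8 (co8 x)
    rw [hx] at h3
    rw [h3] at hs
    simpa [co8] using hs
  have hnorm : x (pt 23) * x (pt 23) + x (pt 0) * x (pt 0) + x (pt 1) * x (pt 1) + x (pt 2) * x (pt 2) +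
      x (pt 3) * x (pt 3) + x (pt 5) * x (pt 5) + x (pt 14) * x (pt 14) + x (pt 17) * x (pt 17) = 32 := by
    have h3 := sqNorm_vec8 (co8 x)
    rw [hx, hn] at h3
    rw [h3]
    rfl
  rcases shape_even hL h2 hn with ⟨m, hm, habs⟩ | ⟨a, b, _, habs⟩
  · have hm' : m = octad0 := by
      rcases octad_check m hm with h | ⟨i, hi, h3, h4⟩
      · exact h
      · exfalso
        have hi' := List.mem_range.1 hi
        have h5 := habs (pt i)
        rw [idx_pt hi', if_pos h3, hO _ (not_mem_O hi' h4)] at h5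
        simp at h5
    subst hm'
    have hv : ∀ k ∈ [23, 0, 1, 2, 3, 5, 14, 17], x (pt k) ∈ [(2 : ℤ), -2] := by
      intro k hk
      obtain ⟨h3, h4⟩ := O_pts k hk
      have h5 := habs (pt k)
      rw [idx_pt h3, if_pos h4] at h5
      simp only [List.mem_cons, List.not_mem_nil, or_false]
      omega
    exact cls_two _ (hv 23 (by simp)) _ (hv 0 (by simp)) _ (hv 1 (by simp)) _ (hv 2 (by simp))
      _ (hv 3 (by simp)) _ (hv 5 (by simp)) _ (hv 14 (by simp)) _ (hv 17 (by simp)) hsum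
  · have hv : ∀ k ∈ [23, 0, 1, 2, 3, 5, 14, 17], x (pt k) ∈ [(0 : ℤ), 4, -4] := by
      intro k _
      have h5 := habs (pt k)
      simp only [List.mem_cons, List.not_mem_nil, or_false]
      split_ifs at h5 <;> omega
    exact cls_four _ (hv 23 (by simp)) _ (hv 0 (by simp)) _ (hv 1 (by simp)) _ (hv 2 (by simp))
      _ (hv 3 (by simp)) _ (hv 5 (by simp)) _ (hv 14 (by simp)) _ (hv 17 (by simp)) hnorm

end Cfsg.Agent.Lib.Sporadic.Co1Cent.Checks
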