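import Mathlib
import Cfsg.Agent.Lib.Sporadic.Co1Cent.Checks
import Cfsg.Agent.Lib.Sporadic.Co2Cent.Surj

/-!
# The homomorphism from the centraliser of `tO` in `Co0` to the isometry group

The centraliser `C0` of the sign change `tO` on the complement of the octad acts on the `240` roots
supported on the octad and on their `120` classes modulo two, which are the non-singular vectors of
an eight-dimensional quadratic space of plus type.
-/

set_option autoImplicit false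

namespace Cfsg.Agent.Lib.Sporadic.Co1Cent.Hom

open Cfsg Cfsg.Agent.Lib.Sporadic.GolayCore Cfsg.Agent.Lib.Sporadic.LeechBasic
  Cfsg.Agent.Lib.Sporadic.LeechNorm Cfsg.Agent.Lib.Sporadic.LeechFacts
  Cfsg.Agent.Lib.Sporadic.LeechAut Cfsg.Agent.Lib.Sporadic.LeechMat
  Cfsg.Agent.Lib.Sporadic.LeechKey Cfsg.Agent.Lib.Sporadic.M24Chain
  Cfsg.Agent.Lib.Sporadic.Co1Cent.Roots
open Cfsg.Agent.Lib.Sporadic.Co2Cent.Roots (V vec8 to24 dot8 d16 co8 SupO dotInt_vec8 sqNorm_vec8 vec8_co8 supO_vec8)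
open Cfsg.Agent.Lib.Sporadic.Co2Cent.Hom (bet bet_smul bet_comm bet_smul_left tO tO_fix_iff zcast_of_mod cast_mod_two)
open Cfsg.Agent.Lib.Sporadic.Co1Cent.Checks (vec8_memA bsA_mem rtA_norm)
open Matrix

/-- Index type of the basis. -/
abbrev I8 : Type := Fin 4 ⊕ Fin 4

/-- Numbering of the basis. -/
def ix8 : I8 → ℕ
  | .inl i => i.val
  | .inr i => i.val + 4

theorem ix8_lt : ∀ i : I8, ix8 i < 8 := by decide

/-- The roots: lattice vectors of norm `32` supported on the octad. -/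
def Rt (x : leechLattice) : Prop := SupO (x : V) ∧ sqNorm (x : V) = 32

/-- The roots as lattice vectors. -/
def rvA (a : List ℤ) (ha : a ∈ rtA) : leechLattice := ⟨vec8 a, vec8_memA ha⟩

theorem bet_rvA {a b : List ℤ} (ha : a ∈ rtA) (hb : b ∈ rtA) :
    bet (rvA a ha) (rvA b hb) = ((d16 a b : ℤ) : ZMod 2) := by
  unfold bet d16 rvA
  show ((dotInt (vec8 a) (vec8 b) / 16 : ℤ) : ZMod 2) = _
  rw [dotInt_vec8]

theorem rt_rvA {a : List ℤ} (ha : a ∈ rtA) : Rt (rvA a ha) := by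
  refine ⟨supO_vec8 a, ?_⟩
  show sqNorm (vec8 a) = 32
  rw [sqNorm_vec8]
  exact rtA_norm a ha

theorem rt_form {x : leechLattice} (h : Rt x) : ∃ a, ∃ ha : a ∈ rtA, x = rvA a ha := by
  obtain ⟨h1, h3⟩ := h
  exact ⟨co8 x, Cfsg.Agent.Lib.Sporadic.Co1Cent.Checks.cls x.2 h1 h3, Subtype.ext (vec8_co8 h1).symm⟩

theorem bsA_mem' (k : ℕ) (hk : k < 8) : bA k ∈ rtA := by
  obtain ⟨h0, h1, h2, h3, h4, h5, h6, h7⟩ := bsA_mem
  interval_cases k <;> assumption

/-- The basis. -/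
def bv8 (k : I8) : leechLattice := rvA (bA (ix8 k)) (bsA_mem' _ (ix8_lt k))

theorem rt_bv8 (k : I8) : Rt (bv8 k) := rt_rvA _

theorem sum_I8 {M : Type*} [AddCommMonoid M] (f : I8 → M) :
    ∑ k, f k = f (.inl 0) + f (.inl 1) + f (.inl 2) + f (.inl 3) +
      (f (.inr 0) + f (.inr 1) + f (.inr 2) + f (.inr 3)) := by
  rw [Fintype.sum_sum_type, Fin.sum_univ_four, Fin.sum_univ_four]

/-- The span identity on the roots. -/
theorem star8 {x y : leechLattice} (hx : Rt x) (hy : Rt y) :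
    bet x y = ∑ k : I8, bet x (bv8 k.swap) * bet y (bv8 k) := by
  obtain ⟨a, ha, rfl⟩ := rt_form hx
  obtain ⟨b, hb, rfl⟩ := rt_form hy
  rw [sum_I8]
  simp only [Sum.swap_inl, Sum.swap_inr, bv8, bet_rvA]
  have h := zcast_of_mod (Cfsg.Agent.Lib.Sporadic.Co1Cent.Checks.star_check a ha b hb)
  push_cast at h
  rw [sub_eq_zero] at h
  rw [h]
  show _ = ((d16 a (bA 4) : ℤ) : ZMod 2) * ((d16 b (bA 0) : ℤ) : ZMod 2) +
      ((d16 a (bA 5) : ℤ) : ZMod 2) * ((d16 b (bA 1) : ℤ) : ZMod 2) +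
      ((d16 a (bA 6) : ℤ) : ZMod 2) * ((d16 b (bA 2) : ℤ) : ZMod 2) +
      ((d16 a (bA 7) : ℤ) : ZMod 2) * ((d16 b (bA 3) : ℤ) : ZMod 2) +
      (((d16 a (bA 0) : ℤ) : ZMod 2) * ((d16 b (bA 4) : ℤ) : ZMod 2) +
      ((d16 a (bA 1) : ℤ) : ZMod 2) * ((d16 b (bA 5) : ℤ) : ZMod 2) +
      ((d16 a (bA 2) : ℤ) : ZMod 2) * ((d16 b (bA 6) : ℤ) : ZMod 2) +
      ((d16 a (bA 3) : ℤ) : ZMod 2) * ((d16 b (bA 7) : ℤ) : ZMod 2))
  ring

theorem ix8_gram : ∀ i j : I8, (ix8 i + 4 = ix8 j ∨ ix8 j + 4 = ix8 i) ↔ i = j.swap := by decide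

/-- The Gram matrix of the basis. -/
theorem gram8 (i j : I8) : bet (bv8 i) (bv8 j) = if i = j.swap then 1 else 0 := by
  unfold bv8
  rw [bet_rvA, cast_mod_two, Cfsg.Agent.Lib.Sporadic.Co1Cent.Checks.gram_check _ (ix8_lt i) _ (ix8_lt j)]
  by_cases h : i = j.swap
  · rw [if_pos ((ix8_gram i j).2 h), if_pos h]
    rfl
  · rw [if_neg (fun h' => h ((ix8_gram i j).1 h')), if_neg h]
    rfl

/-! ### The group -/

/-- The centraliser of the involution `tO` in `Co0`. -/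
abbrev C0 : Subgroup Co0 := Subgroup.centralizer ({tO} : Set Co0)

theorem mem_C0 {g : Co0} : g ∈ C0 ↔ g * tO = tO * g := Subgroup.mem_centralizer_singleton_iff

theorem rt_smul {g : Co0} (hg : g ∈ C0) {x : leechLattice} (hx : Rt x) : Rt (g • x) := by
  obtain ⟨hs, hn⟩ := hx
  refine ⟨?_, ?_⟩
  · rw [← tO_fix_iff]
    rw [← mul_smul, ← mem_C0.1 hg, mul_smul, (tO_fix_iff x).2 hs]
  · rw [co0_sqNorm]
    exact hn

/-! ### The matrix -/

/-- The matrix of an element, in the root coordinates. -/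
def MatR (g : Co0) : Matrix I8 I8 (ZMod 2) := fun i j => bet (g • bv8 j) (bv8 i.swap)

/-- The coordinates of a root. -/
def cv8 (x : leechLattice) : I8 → ZMod 2 := fun k => bet x (bv8 k.swap)

theorem MatR_one : MatR 1 = 1 := by
  ext i j
  simp only [MatR, one_smul]
  rw [gram8, Matrix.one_apply, Sum.swap_swap]
  by_cases h : i = j
  · subst h; simp
  · rw [if_neg (fun h' => h h'.symm), if_neg h]

theorem MatR_mul {g h : Co0} (hg : g ∈ C0) (hh : h ∈ C0) : MatR (g * h) = MatR g * MatR h := by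
  ext i j
  rw [Matrix.mul_apply]
  simp only [MatR, mul_smul]
  rw [bet_smul_left, star8 (rt_smul hh (rt_bv8 j)) (rt_smul (C0.inv_mem hg) (rt_bv8 _))]
  apply Finset.sum_congr rfl
  intro k _
  rw [mul_comm]
  congr 1
  rw [bet_comm, ← bet_smul_left, bet_comm]

theorem MatR_mulVec {g : Co0} (hg : g ∈ C0) {x : leechLattice} (hx : Rt x) :
    MatR g *ᵥ cv8 x = cv8 (g • x) := by
  funext i
  simp only [Matrix.mulVec, dotProduct, MatR, cv8]
  rw [bet_smul_left, star8 hx (rt_smul (C0.inv_mem hg) (rt_bv8 _))]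
  apply Finset.sum_congr rfl
  intro k _
  rw [mul_comm]
  congr 1
  rw [bet_smul_left, bet_comm]

theorem J8_apply (i j : I8) : Matrix.J (Fin 4) (ZMod 2) i j = if i = j.swap then 1 else 0 := by
  rcases i with i | i <;> rcases j with j | j <;>
    simp [Matrix.J, Matrix.one_apply]

theorem J8_mul_apply (A : Matrix I8 I8 (ZMod 2)) (i j : I8) :
    (Matrix.J (Fin 4) (ZMod 2) * A) i j = A i.swap j := by
  rw [Matrix.mul_apply, Finset.sum_eq_single i.swap]
  · rw [J8_apply, Sum.swap_swap, if_pos rfl, one_mul]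
  · intro b _ hb
    rw [J8_apply, if_neg, zero_mul]
    rintro rfl
    exact hb (by simp)
  · simp

theorem MatR_symp {g : Co0} (hg : g ∈ C0) :
    (MatR g)ᵀ * Matrix.J (Fin 4) (ZMod 2) * MatR g = Matrix.J (Fin 4) (ZMod 2) := by
  ext i j
  rw [Matrix.mul_assoc, Matrix.mul_apply]
  simp only [J8_mul_apply, Matrix.transpose_apply]
  rw [J8_apply, ← gram8 i j, ← bet_smul g, star8 (rt_smul hg (rt_bv8 i)) (rt_smul hg (rt_bv8 j))]
  apply Finset.sum_congr rfl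
  intro k _
  simp only [MatR, Sum.swap_swap]

/-! ### The quadratic form -/

/-- The quadratic form in root coordinates. -/
def Qr (w : I8 → ZMod 2) : ZMod 2 := ∑ i : Fin 4, w (.inl i) * w (.inr i) + ∑ k : I8, w k

/-- The polar form. -/
def om8 (u v : I8 → ZMod 2) : ZMod 2 := ∑ k : I8, u k * v k.swap

theorem Qr_add (u v : I8 → ZMod 2) : Qr (u + v) = Qr u + Qr v + om8 u v := by
  simp only [Qr, om8, sum_I8, Fin.sum_univ_four, Pi.add_apply, Sum.swap_inl, Sum.swap_inr]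
  ring

theorem Qr_cv {x : leechLattice} (hx : Rt x) : Qr (cv8 x) = 1 := by
  obtain ⟨a, ha, rfl⟩ := rt_form hx
  have e0 : ix8 (.inl 0) = 0 := rfl
  have e1 : ix8 (.inl 1) = 1 := rfl
  have e2 : ix8 (.inl 2) = 2 := rfl
  have e3 : ix8 (.inl 3) = 3 := rfl
  have e4 : ix8 (.inr 0) = 4 := rfl
  have e5 : ix8 (.inr 1) = 5 := rfl
  have e6 : ix8 (.inr 2) = 6 := rfl
  have e7 : ix8 (.inr 3) = 7 := rfl
  simp only [Qr, cv8, sum_I8, Fin.sum_univ_four, Sum.swap_inl, Sum.swap_inr, bv8, bet_rvA, e0, e1, e2, e3, e4, e5, e6, e7]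
  have h1 := congrArg (Int.cast : ℤ → ZMod 2) (Cfsg.Agent.Lib.Sporadic.Co1Cent.Checks.qr_check a ha)
  rw [← cast_mod_two] at h1
  push_cast at h1
  rw [← h1]
  ring

theorem cv8_bv (j : I8) : cv8 (bv8 j) = Pi.single j 1 := by
  funext k
  simp only [cv8]
  rw [gram8, Sum.swap_swap, Pi.single_apply]
  by_cases h : j = k
  · subst h; simp
  · rw [if_neg h, if_neg (Ne.symm h)]

theorem om8_eq (u v : I8 → ZMod 2) : om8 u v = u ⬝ᵥ (Matrix.J (Fin 4) (ZMod 2) *ᵥ v) := by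
  unfold om8 dotProduct
  apply Finset.sum_congr rfl
  intro k _
  congr 1
  simp only [Matrix.mulVec, dotProduct]
  rw [Finset.sum_eq_single k.swap]
  · rw [J8_apply, Sum.swap_swap, if_pos rfl, one_mul]
  · intro b _ hb
    rw [J8_apply, if_neg, zero_mul]
    rintro rfl
    exact hb (by simp)
  · simp

theorem om8_MatR {g : Co0} (hg : g ∈ C0) (u v : I8 → ZMod 2) :
    om8 (MatR g *ᵥ u) (MatR g *ᵥ v) = om8 u v := by
  rw [om8_eq, om8_eq]
  have h := MatR_symp hg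
  conv_rhs => rw [← h]
  rw [← Matrix.mulVec_mulVec, ← Matrix.mulVec_mulVec, Matrix.dotProduct_mulVec u (MatR g)ᵀ, Matrix.vecMul_transpose]

/-- The map measuring the defect of an isometry. -/
def dfc (g : Co0) (hg : g ∈ C0) : (I8 → ZMod 2) →+ ZMod 2 :=
  AddMonoidHom.mk' (fun u => Qr (MatR g *ᵥ u) - Qr u) (by
    intro u v
    show Qr (MatR g *ᵥ (u + v)) - Qr (u + v) = _
    rw [Matrix.mulVec_add, Qr_add, Qr_add, om8_MatR hg]
    ring)

theorem dfc_apply (g : Co0) (hg : g ∈ C0) (u : I8 → ZMod 2) : dfc g hg u = Qr (MatR g *ᵥ u) - Qr u := rfl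

theorem Qr_MatR {g : Co0} (hg : g ∈ C0) (u : I8 → ZMod 2) : Qr (MatR g *ᵥ u) = Qr u := by
  have key : dfc g hg u = 0 := by
    rw [← Finset.univ_sum_single u, map_sum]
    apply Finset.sum_eq_zero
    intro k _
    have hc : u k = 0 ∨ u k = 1 := by
      have : ∀ c : ZMod 2, c = 0 ∨ c = 1 := by decide
      exact this _
    rcases hc with hc | hc
    · rw [hc, Pi.single_zero, map_zero]
    · rw [hc, dfc_apply, ← cv8_bv, MatR_mulVec hg (rt_bv8 k), Qr_cv (rt_smul hg (rt_bv8 k)), Qr_cv (rt_bv8 k), sub_self]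
  rw [dfc_apply, sub_eq_zero] at key
  exact key

/-! ### The change of basis -/

/-- A matrix from a table. -/
def tbl8 (t : List (List ℕ)) : Matrix I8 I8 (ZMod 2) :=
  fun i j => (((t.getD (ix8 i) []).getD (ix8 j) 0 : ℕ) : ZMod 2)

/-- The change of basis. -/
def tT8 : List (List ℕ) := [[1,0,0,0,0,1,0,0],[0,0,1,0,0,1,0,0],[0,0,0,1,0,1,0,0],[1,1,1,1,1,1,1,1],[0,0,0,0,1,1,0,0],[0,0,0,0,0,1,1,0],[0,0,0,0,0,1,0,1],[1,1,1,1,1,0,1,1]]

/-- The inverse change of basis. -/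
def tI8 : List (List ℕ) := [[1,0,0,1,0,0,0,1],[1,1,1,0,1,1,1,1],[0,1,0,1,0,0,0,1],[0,0,1,1,0,0,0,1],[0,0,0,1,1,0,0,1],[0,0,0,1,0,0,0,1],[0,0,0,1,0,1,0,1],[0,0,0,1,0,0,1,1]]

/-- The change of basis. -/
abbrev T8 : Matrix I8 I8 (ZMod 2) := tbl8 tT8

/-- The inverse change of basis. -/
abbrev Ti8 : Matrix I8 I8 (ZMod 2) := tbl8 tI8

theorem T8_mul : T8 * Ti8 = 1 := by
  have h : ∀ p : I8 × I8, (tbl8 tT8 * tbl8 tI8) p.1 p.2 = (1 : Matrix I8 I8 (ZMod 2)) p.1 p.2 := by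
    decide +kernel
  ext i j
  exact h (i, j)

theorem Ti8_mul : Ti8 * T8 = 1 := mul_eq_one_comm.1 T8_mul

theorem Qs_T : ∀ w : I8 → ZMod 2, quadFormPlus 4 (ZMod 2) (T8 *ᵥ w) = Qr w := by
  decide +kernel

/-- The matrix of an element in the standard coordinates. -/
def MatS (g : Co0) : Matrix I8 I8 (ZMod 2) := T8 * MatR g * Ti8

theorem MatS_one : MatS 1 = 1 := by
  unfold MatS
  rw [MatR_one, mul_one, T8_mul]

theorem MatS_mul {g h : Co0} (hg : g ∈ C0) (hh : h ∈ C0) : MatS (g * h) = MatS g * MatS h := by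
  unfold MatS
  rw [MatR_mul hg hh]
  calc T8 * (MatR g * MatR h) * Ti8 = T8 * MatR g * 1 * MatR h * Ti8 := by simp [mul_assoc]
    _ = T8 * MatR g * (Ti8 * T8) * MatR h * Ti8 := by rw [Ti8_mul]
    _ = _ := by simp only [mul_assoc]

/-- The map to matrices. -/
noncomputable def toMat8 : C0 →* Matrix I8 I8 (ZMod 2) where
  toFun g := MatS g.1
  map_one' := MatS_one
  map_mul' g h := MatS_mul g.2 h.2

/-- The map to the linear group. -/
noncomputable def toGL8 : C0 →* Matrix.GeneralLinearGroup I8 (ZMod 2) := MonoidHom.toHomUnits toMat8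

theorem coe_toGL8 (g : C0) : ((toGL8 g : Matrix.GeneralLinearGroup I8 (ZMod 2)) : Matrix I8 I8 (ZMod 2)) = MatS g.1 := rfl

theorem toGL8_mem (g : C0) : toGL8 g ∈ isometryGroup (ZMod 2) (quadFormPlus 4 (ZMod 2)) := by
  intro u _
  show quadFormPlus 4 (ZMod 2) (MatS g.1 *ᵥ u) = quadFormPlus 4 (ZMod 2) u
  have h1 : MatS g.1 *ᵥ u = T8 *ᵥ (MatR g.1 *ᵥ (Ti8 *ᵥ u)) := by
    unfold MatS
    rw [Matrix.mulVec_mulVec, Matrix.mulVec_mulVec, mul_assoc]
  have h2 : u = T8 *ᵥ (Ti8 *ᵥ u) := by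
    rw [Matrix.mulVec_mulVec, T8_mul, Matrix.one_mulVec]
  rw [h1, Qs_T, Qr_MatR g.2]
  conv_rhs => rw [h2]
  rw [Qs_T]

/-- The homomorphism to the isometry group. -/
noncomputable def psi8 : C0 →* isometryGroup (ZMod 2) (quadFormPlus 4 (ZMod 2)) :=
  toGL8.codRestrict _ toGL8_mem

theorem psi8_eq_one_iff {g : C0} : psi8 g = 1 ↔ MatR g.1 = 1 := by
  constructor
  · intro h
    have h1 : MatS g.1 = 1 := by
      have := congrArg (fun x : isometryGroup (ZMod 2) (quadFormPlus 4 (ZMod 2)) =>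
        ((x.1 : Matrix.GeneralLinearGroup I8 (ZMod 2)) : Matrix I8 I8 (ZMod 2))) h
      exact this
    unfold MatS at h1
    calc MatR g.1 = Ti8 * (T8 * MatR g.1 * Ti8) * T8 := by
          have e : Ti8 * (T8 * MatR g.1 * Ti8) * T8 = (Ti8 * T8) * MatR g.1 * (Ti8 * T8) := by
            simp only [mul_assoc]
          rw [e, Ti8_mul, one_mul, mul_one]
      _ = 1 := by rw [h1, mul_one, Ti8_mul]
  · intro h
    apply Subtype.ext
    apply Units.ext
    show MatS g.1 = 1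
    unfold MatS
    rw [h, mul_one, T8_mul]

end Cfsg.Agent.Lib.Sporadic.Co1Cent.Hom
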